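import Cfsg.Agent.H4.ITwo.Defs
import Cfsg.Agent.S0075
import Cfsg.Agent.H1.Cores
import Cfsg.Agent.H1.ThompsonComplement
import Cfsg.Agent.H82.PLength

/-!
# Reduction and end for S3347 (helper61)

If `O^p(G) = G` then the focal subgroup theorem makes `P` inverted by `N(P)`. Passing to
`G / O_{p'}(G)`, the dichotomy gives a linear character whose kernel contains `P` and `C(P)`
(the second case being impossible, as an inverting element has even order), and Burnside's
transfer in this kernel shows that the image of `P` is normal.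
-/

set_option autoImplicit false

open Cfsg Subgroup
open scoped commutatorElement

namespace H61.ITwo

universe u

variable {G : Type u} [Group G] [Finite G] {p : ℕ} [Fact p.Prime]

/-- If `O^p(G) = G` and the index of the centraliser in the normaliser is two, then `P` is inverted. -/
theorem inverted_of_pResidual_eq_top (P : Sylow p G) (hab : IsMulCommutative (P : Subgroup G))
    (hidx : ((centralizer ((P : Subgroup G) : Set G)).subgroupOf
      (normalizer ((P : Subgroup G) : Set G))).index = 2)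
    (htop : Cfsg.pResidual p G = ⊤) : H4.ITwo.Inverted P := by
  set N : Subgroup G := normalizer ((P : Subgroup G) : Set G) with hN
  set C : Subgroup G := centralizer ((P : Subgroup G) : Set G) with hC
  have hPeq : (P : Subgroup G) = ⁅(P : Subgroup G), N⁆ := by
    have h1 := Cfsg.Agent.S0075.result P hab
    rw [htop, inf_top_eq] at h1
    exact h1
  obtain ⟨n, hnC⟩ : ∃ n : N, n ∉ C.subgroupOf N := by
    by_contra h
    push Not at h
    have h1 : C.subgroupOf N = ⊤ := eq_top_iff.mpr fun x _ => h x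
    rw [h1, index_top] at hidx
    omega
  have hcomm : ∀ a ∈ (P : Subgroup G), ∀ b ∈ (P : Subgroup G), a * b = b * a := fun a ha b hb =>
    congrArg Subtype.val (hab.is_comm.comm (⟨a, ha⟩ : ↥(P : Subgroup G)) ⟨b, hb⟩)
  have hnP : ∀ x ∈ (P : Subgroup G), (n : G) * x * (n : G)⁻¹ ∈ (P : Subgroup G) := fun x hx =>
    (mem_normalizer_iff.mp n.2 x).mp hx
  have hcfix : ∀ c ∈ C, ∀ x ∈ (P : Subgroup G), c * x * c⁻¹ = x := by
    intro c hc x hx
    rw [← mem_centralizer_iff.mp hc x hx, mul_inv_cancel_right]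
  have hsq : ∀ x ∈ (P : Subgroup G), (n : G) * ((n : G) * x * (n : G)⁻¹) * (n : G)⁻¹ = x := by
    intro x hx
    have h2 : (n : G) * n ∈ C := mul_self_mem_of_index_two hidx n
    calc (n : G) * ((n : G) * x * (n : G)⁻¹) * (n : G)⁻¹
        = ((n : G) * n) * x * ((n : G) * n)⁻¹ := by group
      _ = x := hcfix _ h2 x hx
  let Q : Subgroup G :=
    { carrier := {y | y ∈ (P : Subgroup G) ∧ (n : G) * y * (n : G)⁻¹ = y⁻¹}
      one_mem' := ⟨one_mem _, by simp⟩
      mul_mem' := by
        rintro a b ⟨ha, ha'⟩ ⟨hb, hb'⟩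
        refine ⟨mul_mem ha hb, ?_⟩
        calc (n : G) * (a * b) * (n : G)⁻¹
            = ((n : G) * a * (n : G)⁻¹) * ((n : G) * b * (n : G)⁻¹) := by group
          _ = (b * a)⁻¹ := by rw [ha', hb', mul_inv_rev]
          _ = (a * b)⁻¹ := by rw [hcomm a ha b hb]
      inv_mem' := by
        rintro a ⟨ha, ha'⟩
        refine ⟨inv_mem ha, ?_⟩
        calc (n : G) * a⁻¹ * (n : G)⁻¹ = ((n : G) * a * (n : G)⁻¹)⁻¹ := by group
          _ = (a⁻¹)⁻¹ := by rw [ha'] }
  have hPQ : (P : Subgroup G) ≤ Q := by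
    rw [hPeq]
    refine commutator_le.mpr fun t ht m hm => ?_
    by_cases hmC : m ∈ C
    · have h1 : ⁅t, m⁆ = 1 := by
        rw [commutatorElement_eq_one_iff_mul_comm]
        exact mem_centralizer_iff.mp hmC t ht
      rw [h1]
      exact one_mem _
    · have hc : n⁻¹ * ⟨m, hm⟩ ∈ C.subgroupOf N := by
        rw [mul_mem_iff_of_index_two hidx, inv_mem_iff]
        exact iff_of_false hnC hmC
      have hc' : (n : G)⁻¹ * m ∈ C := hc
      have hmt : m * t⁻¹ * m⁻¹ = (n : G) * t⁻¹ * (n : G)⁻¹ := by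
        calc m * t⁻¹ * m⁻¹ = (n : G) * (((n : G)⁻¹ * m) * t⁻¹ * ((n : G)⁻¹ * m)⁻¹) * (n : G)⁻¹ := by
              group
          _ = _ := by rw [hcfix _ hc' _ (inv_mem ht)]
      have h1 : ⁅t, m⁆ = t * ((n : G) * t⁻¹ * (n : G)⁻¹) := by
        rw [← hmt, commutatorElement_def]
        group
      rw [h1]
      refine ⟨mul_mem ht (hnP _ (inv_mem ht)), ?_⟩
      calc (n : G) * (t * ((n : G) * t⁻¹ * (n : G)⁻¹)) * (n : G)⁻¹
          = ((n : G) * t * (n : G)⁻¹) * ((n : G) * ((n : G) * t⁻¹ * (n : G)⁻¹) * (n : G)⁻¹) := by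
            group
        _ = ((n : G) * t * (n : G)⁻¹) * t⁻¹ := by rw [hsq _ (inv_mem ht)]
        _ = _ := by group
  refine ⟨fun m hm => ?_, n, n.2, fun x hx => (hPQ hx).2⟩
  by_cases hmC : m ∈ C
  · exact Or.inl (hcfix m hmC)
  · refine Or.inr fun x hx => ?_
    have hc : n⁻¹ * ⟨m, hm⟩ ∈ C.subgroupOf N := by
      rw [mul_mem_iff_of_index_two hidx, inv_mem_iff]
      exact iff_of_false hnC hmC
    have hc' : (n : G)⁻¹ * m ∈ C := hc
    calc m * x * m⁻¹ = (n : G) * (((n : G)⁻¹ * m) * x * ((n : G)⁻¹ * m)⁻¹) * (n : G)⁻¹ := by group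
      _ = (n : G) * x * (n : G)⁻¹ := by rw [hcfix _ hc' x hx]
      _ = x⁻¹ := (hPQ hx).2

omit [Finite G] in
/-- An element of odd order cannot be its own inverse, unless trivial. -/
theorem eq_one_of_inv_eq_self (hp : p ≠ 2) (P : Sylow p G) {x : G} (hx : x ∈ (P : Subgroup G))
    (h : x⁻¹ = x) : x = 1 := by
  obtain ⟨k, hk⟩ := P.2 ⟨x, hx⟩
  have h1 : x ^ p ^ k = 1 := congrArg Subtype.val hk
  have h2 : x ^ 2 = 1 := by rw [sq]; nth_rewrite 1 [← h]; exact inv_mul_cancel x
  have hcop : Nat.Coprime (p ^ k) 2 :=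
    Nat.Coprime.pow_left k ((Nat.coprime_primes (Fact.out : p.Prime) Nat.prime_two).mpr hp)
  exact orderOf_eq_one_iff.mp
    (Nat.eq_one_of_dvd_coprimes hcop (orderOf_dvd_of_pow_eq_one h1) (orderOf_dvd_of_pow_eq_one h2))

/-- The Burnside step: a normal subgroup containing `P` in which the normaliser of `P` centralises
`P` is `P` itself, if there is no normal `p'`-subgroup. -/
theorem eq_sylow_of_normalizer_inf_le (hcore : Cfsg.pPrimeCore p G = ⊥) (P : Sylow p G)
    (L : Subgroup G) [L.Normal] (hPL : (P : Subgroup G) ≤ L)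
    (hNC : normalizer ((P : Subgroup G) : Set G) ⊓ L ≤ centralizer ((P : Subgroup G) : Set G)) :
    L = (P : Subgroup G) := by
  set P' : Sylow p L := P.subtype hPL with hP'
  have hco : ((P' : Subgroup L)) = (P : Subgroup G).subgroupOf L := P.coe_subtype hPL
  have hburn : normalizer ((P' : Subgroup L) : Set L) ≤ centralizer ((P' : Subgroup L) : Set L) := by
    intro g hg
    rw [mem_centralizer_iff]
    intro x hx
    have hgG : (g : G) ∈ normalizer ((P : Subgroup G) : Set G) := by
      rw [mem_normalizer_iff]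
      intro y
      constructor
      · intro hy
        have h1 := (mem_normalizer_iff.mp hg ⟨y, hPL hy⟩).mp (by rw [hco]; exact hy)
        rw [hco] at h1
        exact h1
      · intro hy
        have hyL : y ∈ L := by
          have h1 := mul_mem (mul_mem (inv_mem g.2) (hPL hy)) g.2
          simpa [mul_assoc] using h1
        have h1 := (mem_normalizer_iff.mp hg ⟨y, hyL⟩).mpr (by rw [hco]; exact hy)
        rw [hco] at h1
        exact h1
    have hxG : (x : G) ∈ (P : Subgroup G) := by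
      rw [hco] at hx
      exact hx
    exact Subtype.ext (mem_centralizer_iff.mp (hNC ⟨hgG, g.2⟩) x hxG)
  have hcomp := MonoidHom.ker_transferSylow_isComplement' P' hburn
  have hndvd := MonoidHom.not_dvd_card_ker_transferSylow P' hburn
  set τ := MonoidHom.transferSylow P' hburn with hτ
  set K := τ.ker with hK
  have hKn : (K.map L.subtype).Normal := by
    constructor
    rintro _ ⟨g, hg, rfl⟩ h
    let g' : L := ⟨h * (g : G) * h⁻¹, (inferInstance : L.Normal).conj_mem _ g.2 h⟩
    refine ⟨g', ?_, rfl⟩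
    have hord : orderOf g' = orderOf g := by
      rw [← orderOf_coe g', ← orderOf_coe g]
      exact MulEquiv.orderOf_eq (MulAut.conj h) (g : G)
    have hcop : Nat.Coprime (orderOf g') p := by
      rw [hord]
      have h1 : orderOf (⟨g, hg⟩ : K) ∣ Nat.card K := orderOf_dvd_natCard _
      rw [orderOf_mk] at h1
      exact Nat.Coprime.coprime_dvd_left h1
        ((Fact.out : p.Prime).coprime_iff_not_dvd.mpr hndvd).symm
    show τ g' = 1
    obtain ⟨k, hk⟩ := P'.2 (τ g')
    exact orderOf_eq_one_iff.mp (Nat.eq_one_of_dvd_coprimes (hcop.pow_right k)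
      (orderOf_map_dvd τ g') (orderOf_dvd_of_pow_eq_one hk))
  have hKbot : K = ⊥ := by
    have h1 : K.map L.subtype ≤ Cfsg.pPrimeCore p G := by
      refine H1.le_pPrimeCore (Nat.Coprime.coprime_dvd_left (card_map_dvd _ _) ?_)
      exact ((Fact.out : p.Prime).coprime_iff_not_dvd.mpr hndvd).symm
    rw [hcore, le_bot_iff, map_eq_bot_iff_of_injective _ L.subtype_injective] at h1
    exact h1
  rw [hKbot, isComplement'_bot_left] at hcomp
  refine le_antisymm (fun x hx => ?_) hPL
  have h1 : (⟨x, hx⟩ : L) ∈ (P' : Subgroup L) := by rw [hcomp]; trivial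
  rw [hco] at h1
  exact h1

/-- The end of the argument in a group without normal `p'`-subgroups. -/
theorem normal_of_dichotomy (hp : p ≠ 2) (hcore : Cfsg.pPrimeCore p G = ⊥) (P : Sylow p G)
    (hnt : (P : Subgroup G) ≠ ⊥) (hI : H4.ITwo.Inverted P)
    (hD : (∃ f : G →* ℂˣ, f ≠ 1 ∧ ∀ g : G, p ∣ orderOf g → f g = 1) ∨
      (∃ K : Subgroup G, K.Normal ∧ ¬ p ∣ Nat.card K ∧ ∀ t : G, orderOf t = 2 → t ∈ K)) :
    (P : Subgroup G).Normal := by
  have hpp : p.Prime := Fact.out
  obtain ⟨hall, n, hnN, hninv⟩ := hI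
  obtain ⟨u₀, hu₀, hu₀1⟩ : ∃ u ∈ (P : Subgroup G), u ≠ 1 := by
    by_contra h
    push Not at h
    exact hnt ((eq_bot_iff_forall _).mpr h)
  rcases hD with ⟨f, hf1, hf⟩ | ⟨K, hKn, hKp, hinv⟩
  · have hdvd : ∀ x ∈ (P : Subgroup G), x ≠ 1 → p ∣ orderOf x := by
      intro x hx hx1
      obtain ⟨k, hk⟩ := P.2 ⟨x, hx⟩
      have h1 : orderOf x ∣ p ^ k := orderOf_dvd_of_pow_eq_one (congrArg Subtype.val hk)
      obtain ⟨j, -, hj⟩ := (Nat.dvd_prime_pow hpp).mp h1
      rcases j.eq_zero_or_pos with rfl | hjpos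
      · exact absurd (orderOf_eq_one_iff.mp (by simpa using hj)) hx1
      · rw [hj]; exact dvd_pow_self p hjpos.ne'
    have hPL : (P : Subgroup G) ≤ f.ker := by
      intro x hx
      by_cases hx1 : x = 1
      · rw [hx1]; exact one_mem _
      · exact hf x (hdvd x hx hx1)
    have hCL : centralizer ((P : Subgroup G) : Set G) ≤ f.ker := by
      intro c hc
      by_cases hcp : p ∣ orderOf c
      · exact hf c hcp
      · have hcop : Nat.Coprime (orderOf u₀) (orderOf c) := by
          obtain ⟨k, hk⟩ := P.2 ⟨u₀, hu₀⟩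
          exact Nat.Coprime.coprime_dvd_left
            (orderOf_dvd_of_pow_eq_one (congrArg Subtype.val hk))
            ((hpp.coprime_iff_not_dvd.mpr hcp).pow_left k)
        have hcm : Commute u₀ c := mem_centralizer_iff.mp hc u₀ hu₀
        have h1 : f (u₀ * c) = 1 := hf _ (by
          rw [hcm.orderOf_mul_eq_mul_orderOf_of_coprime hcop]
          exact (hdvd u₀ hu₀ hu₀1).mul_right _)
        rw [map_mul, show f u₀ = 1 from hPL hu₀, one_mul] at h1
        exact h1
    have hfr : normalizer ((P : Subgroup G) : Set G) ⊔ f.ker = ⊤ :=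
      Sylow.normalizer_sup_eq_top' P hPL
    have hNC : normalizer ((P : Subgroup G) : Set G) ⊓ f.ker ≤
        centralizer ((P : Subgroup G) : Set G) := by
      rintro g ⟨hgN, hgL⟩
      rcases hall g hgN with hg | hg
      · rw [mem_centralizer_iff]
        intro x hx
        calc x * g = (g * x * g⁻¹) * g := by rw [hg x hx]
          _ = g * x := by group
      · exfalso
        apply hf1
        have hNL : normalizer ((P : Subgroup G) : Set G) ≤ f.ker := by
          intro m hm
          rcases hall m hm with h | h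
          · refine hCL (mem_centralizer_iff.mpr fun x hx => ?_)
            calc x * m = (m * x * m⁻¹) * m := by rw [h x hx]
              _ = m * x := by group
          · have h1 : g⁻¹ * m ∈ centralizer ((P : Subgroup G) : Set G) := by
              refine mem_centralizer_iff.mpr fun x hx => ?_
              have e : g * x * g⁻¹ = m * x * m⁻¹ := by rw [hg x hx, h x hx]
              calc x * (g⁻¹ * m) = g⁻¹ * (g * x * g⁻¹) * m := by group
                _ = g⁻¹ * (m * x * m⁻¹) * m := by rw [e]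
                _ = g⁻¹ * m * x := by group
            have h2 := mul_mem (hgL : g ∈ f.ker) (hCL h1)
            rwa [mul_inv_cancel_left] at h2
        rw [sup_eq_right.mpr hNL] at hfr
        exact MonoidHom.ker_eq_top_iff.mp hfr
    rw [← eq_sylow_of_normalizer_inf_le hcore P f.ker hPL hNC]
    infer_instance
  · exfalso
    have hK1 : K = ⊥ := by
      have := H1.le_pPrimeCore (N := K) (hpp.coprime_iff_not_dvd.mpr hKp).symm
      rwa [hcore, le_bot_iff] at this
    have heven : 2 ∣ orderOf n := by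
      by_contra hodd
      have hcop : Nat.Coprime 2 (orderOf n) := Nat.prime_two.coprime_iff_not_dvd.mpr hodd
      obtain ⟨m, hm⟩ := exists_pow_eq_self_of_coprime (x := n) hcop
      have h2 : n ^ 2 * u₀ * (n ^ 2)⁻¹ = u₀ := by
        calc n ^ 2 * u₀ * (n ^ 2)⁻¹ = n * (n * u₀ * n⁻¹) * n⁻¹ := by rw [sq]; group
          _ = n * u₀⁻¹ * n⁻¹ := by rw [hninv u₀ hu₀]
          _ = _ := by rw [hninv _ (inv_mem hu₀), inv_inv]
      have hc : Commute (n ^ 2) u₀ := by
        show n ^ 2 * u₀ = u₀ * n ^ 2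
        calc n ^ 2 * u₀ = n ^ 2 * u₀ * (n ^ 2)⁻¹ * n ^ 2 := by group
          _ = _ := by rw [h2]
      have hc2 : Commute n u₀ := hm ▸ hc.pow_left m
      refine hu₀1 (eq_one_of_inv_eq_self hp P hu₀ ?_)
      rw [← hninv u₀ hu₀, hc2.eq, mul_inv_cancel_right]
    have ht : orderOf (n ^ (orderOf n / 2)) = 2 :=
      orderOf_pow_orderOf_div (orderOf_pos n).ne' heven
    have h1 := hinv _ ht
    rw [hK1, mem_bot] at h1
    rw [h1, orderOf_one] at ht
    omega

/-- **The reduction**: S3347 from the cover and the dichotomy. -/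
theorem main (hC : H4.ITwo.CoverStmt.{u}) (hD : H4.ITwo.DichotomyStmt.{u}) :
    H4.ITwo.MainStmt.{u} := by
  intro G _ _ p _ hp P hab hnc hidx
  refine or_iff_not_imp_left.mpr fun hres => ?_
  have hres' : Cfsg.pResidual p G = ⊤ := not_not.mp hres
  have hI := inverted_of_pResidual_eq_top P hab hidx hres'
  have hpp : p.Prime := Fact.out
  have : (Cfsg.pPrimeCore p G).Normal := H1.pPrimeCore_normal' p G
  set π := QuotientGroup.mk' (Cfsg.pPrimeCore p G) with hπ
  have hsurj : Function.Surjective π := QuotientGroup.mk'_surjective _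
  have hcop := H1.card_pPrimeCore_coprime p G
  let P' : Sylow p (G ⧸ Cfsg.pPrimeCore p G) := P.mapSurjective hsurj
  have hco : (P' : Subgroup (G ⧸ Cfsg.pPrimeCore p G)) = (P : Subgroup G).map π :=
    Sylow.coe_mapSurjective hsurj P
  have hinj : ∀ x ∈ (P : Subgroup G), π x = 1 → x = 1 := by
    intro x hx h1
    obtain ⟨k, hk⟩ := P.2 ⟨x, hx⟩
    have hxK : x ∈ Cfsg.pPrimeCore p G := (QuotientGroup.eq_one_iff x).mp h1
    have h2 : orderOf (⟨x, hxK⟩ : ↥(Cfsg.pPrimeCore p G)) ∣ Nat.card ↥(Cfsg.pPrimeCore p G) :=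
      orderOf_dvd_natCard _
    rw [orderOf_mk] at h2
    exact orderOf_eq_one_iff.mp (Nat.eq_one_of_dvd_coprimes (hcop.pow_right k) h2
      (orderOf_dvd_of_pow_eq_one (congrArg Subtype.val hk)))
  have hab' : IsMulCommutative (P' : Subgroup (G ⧸ Cfsg.pPrimeCore p G)) := by
    refine ⟨⟨fun a b => ?_⟩⟩
    obtain ⟨x, hx, hxa⟩ : (a : G ⧸ Cfsg.pPrimeCore p G) ∈ (P : Subgroup G).map π := hco ▸ a.2
    obtain ⟨y, hy, hyb⟩ : (b : G ⧸ Cfsg.pPrimeCore p G) ∈ (P : Subgroup G).map π := hco ▸ b.2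
    apply Subtype.ext
    push_cast
    rw [← hxa, ← hyb, ← map_mul, ← map_mul]
    exact congrArg π (congrArg Subtype.val (hab.is_comm.comm (⟨x, hx⟩ : ↥(P : Subgroup G)) ⟨y, hy⟩))
  let φ : ↥(P : Subgroup G) →* ↥(P' : Subgroup (G ⧸ Cfsg.pPrimeCore p G)) :=
    { toFun := fun x => ⟨π (x : G), hco ▸ mem_map_of_mem π x.2⟩
      map_one' := Subtype.ext (map_one π)
      map_mul' := fun x y => Subtype.ext (map_mul π (x : G) (y : G)) }
  have hφ : Function.Injective φ := by
    rw [injective_iff_map_eq_one]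
    intro x hx
    exact Subtype.ext (hinj x x.2 (congrArg Subtype.val hx))
  have hnc' : ¬ IsCyclic (P' : Subgroup (G ⧸ Cfsg.pPrimeCore p G)) := fun h =>
    hnc (isCyclic_of_injective φ hφ)
  have hnt' : (P' : Subgroup (G ⧸ Cfsg.pPrimeCore p G)) ≠ ⊥ := by
    intro h
    apply hnc'
    have : Subsingleton ↥(P' : Subgroup (G ⧸ Cfsg.pPrimeCore p G)) := by
      rw [h]; infer_instance
    exact isCyclic_of_subsingleton
  have hI' : H4.ITwo.Inverted P' := by
    obtain ⟨hall, n, hnN, hninv⟩ := hI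
    refine ⟨fun g hg => ?_, π n, ?_, ?_⟩
    · rw [hco] at hg
      obtain ⟨m, hm, rfl⟩ := H1.normalizer_map_le_of_coprime _ hcop P.2 hg
      rcases hall m hm with h | h
      · refine Or.inl fun x hx => ?_
        obtain ⟨y, hy, rfl⟩ : x ∈ (P : Subgroup G).map π := hco ▸ hx
        rw [← map_inv, ← map_mul, ← map_mul, h y hy]
      · refine Or.inr fun x hx => ?_
        obtain ⟨y, hy, rfl⟩ : x ∈ (P : Subgroup G).map π := hco ▸ hx
        rw [← map_inv π m, ← map_mul, ← map_mul, h y hy, map_inv]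
    · rw [hco]
      exact le_normalizer_map π ⟨n, hnN, rfl⟩
    · intro x hx
      obtain ⟨y, hy, rfl⟩ : x ∈ (P : Subgroup G).map π := hco ▸ hx
      rw [← map_inv π n, ← map_mul, ← map_mul, hninv y hy, map_inv]
  obtain ⟨c⟩ := hC _ p hp P' hab' hnc' hI'
  have hn : (P' : Subgroup (G ⧸ Cfsg.pPrimeCore p G)).Normal :=
    normal_of_dichotomy hp (H1.pPrimeCore_quotient_pPrimeCore p) P' hnt' hI'
      (hD _ p hp P' hab' hnc' hI' c)
  refine H82.pLengthLE_one_of_coprime_index ?_
  have := hn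
  have hle : (P' : Subgroup (G ⧸ Cfsg.pPrimeCore p G)) ≤ Cfsg.pCore p _ := H1.le_pCore P'.2
  have hdiv : (Cfsg.pPrimePCore p G).index ∣ (P' : Subgroup (G ⧸ Cfsg.pPrimeCore p G)).index := by
    show ((Cfsg.pCore p (G ⧸ Cfsg.pPrimeCore p G)).comap π).index ∣ _
    rw [index_comap_of_surjective _ hsurj]
    exact index_dvd_of_le hle
  exact Nat.Coprime.coprime_dvd_left hdiv (hpp.coprime_iff_not_dvd.mpr P'.not_dvd_index).symm

end H61.ITwo
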